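import Mathlib
import Cfsg.Agent.Lib.J4.CAct
import Cfsg.Agent.Lib.J4T.DD
import Cfsg.Agent.Lib.J4T.ExGen

/-!
# The centraliser of the involution `u` of `J4` acts as `M22.2` on 77 vectors
-/

set_option autoImplicit false
set_option maxRecDepth 100000
set_option Elab.async false

namespace CfsgLib.J4

open Cfsg CfsgLib.CosetEnum CfsgLib.MOrb
open CfsgLib.Golay (ofMask isCode encL codeSets ofMask_xor allLT of_allLT allLT_iff anyL anyL_iff pt ix tb pc)
open CfsgLib.Comput (e2 band band_eq_true)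
open CfsgLib.M24E (P24 Rp pm isM setTo img pm_rp idq)
open CfsgLib.J4T (DD o0)
open scoped Pointwise

/-- a submonoid of a finite group -/
def toSub {G : Type*} [Group G] [Finite G] (S : Submonoid G) : Subgroup G :=
  { S with
    inv_mem' := fun {x} hx =>
      Submonoid.powers_le.2 hx (mem_powers_iff_mem_zpowers.2 (inv_mem (Subgroup.mem_zpowers x))) }

theorem nth_all {α : Type} {P : α → Prop} {d : α} (h0 : P d) {l : List α} (h : ∀ a ∈ l, P a) (m : ℕ) :
    P (nth d l m) := by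
  induction l generalizing m with
  | nil => exact h0
  | cons a l ih => cases m with
    | zero => exact h a List.mem_cons_self
    | succ m => exact ih (fun b hb => h b (List.mem_cons_of_mem _ hb)) m

/-- the 77 octads -/
def oT : ℕ := 0x800c75f04805a60849a800c78b0a0584190780a88dd40063900bc1c8384181c84382402fc2814584624591104d9600958c48a1a44413888269a051618320e1a0031da23405a5802598081bc012a5982125a88d01a02a23a11891c20c83cc040d88d015c12017c040d9c10929929821b004a9838419d01511882691a2c281a960099086078145859a4441c48a11826911805e09821253952c01b0a051e1064180254b8d0151ea0031860721c0e421891423d98081d22209e0900bb301038a1189bc120185028bc8430381b301c750018ea00394c1098494c18081b3914231e42181843039907083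

/-- pairs that act in the same way on the vectors and on the octads -/
def Tm : Subgroup (Spor.J4 × P24) := toSub
  { carrier := {x | x.1 * uJ = uJ * x.1 ∧ x.2 ∈ DD ∧ ∀ i < 77, ∃ j < 77,
      x.1 • vec vX i = vec vX j ∧ x.2 • ofMask (blk oT i) = ofMask (blk oT j)}
    one_mem' := ⟨(one_mul _).trans (mul_one _).symm, one_mem _, fun i hi => ⟨i, hi, one_smul _ _, one_smul _ _⟩⟩
    mul_mem' := by
      rintro x y ⟨h1, h2, h3⟩ ⟨h4, h5, h6⟩
      refine ⟨by rw [Prod.fst_mul, mul_assoc, h4, ← mul_assoc, h1, mul_assoc], mul_mem h2 h5, fun i hi => ?_⟩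
      obtain ⟨j, hj, a, b⟩ := h6 i hi
      obtain ⟨k, hk, c, d⟩ := h3 j hj
      exact ⟨k, hk, by rw [Prod.fst_mul, mul_smul, a, c], by rw [Prod.snd_mul, mul_smul, b, d]⟩ }

theorem mem_Tm {g : Spor.J4} {p : P24} : (g, p) ∈ Tm ↔ g * uJ = uJ * g ∧ p ∈ DD ∧ ∀ i < 77, ∃ j < 77,
    g • vec vX i = vec vX j ∧ p • ofMask (blk oT i) = ofMask (blk oT j) := Iff.rfl

theorem inj77 {i j : ℕ} (hi : i < 77) (hj : j < 77)
    (h : vec vX i = vec vX j ∨ ofMask (blk oT i) = ofMask (blk oT j)) : i = j := by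
  have h1 : allLT 77 (fun i => frc (bk 112 vX i) fun a => frc (blk oT i) fun b => allLT 77 fun j =>
    or (Nat.beq i j) (not (or (Nat.beq a (bk 112 vX j)) (Nat.beq b (blk oT j))))) = true := by decide +kernel
  have h2 := of_allLT h1 hi
  rw [frc_eq, frc_eq] at h2
  have h3 := of_allLT h2 hj
  rw [Bool.or_eq_true, Bool.not_eq_true', ← Bool.not_eq_true, Bool.or_eq_true, bk_iff, Nat.beq_eq, Nat.beq_eq,
    ← Golay.ofMask_inj (blk_lt _ _) (blk_lt _ _)] at h3
  exact h3.resolve_right (not_not.2 h)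

/-- the word `w` is matched by the permutation `p` -/
noncomputable def genOK (e : List ℕ × ℕ) : Bool :=
  band (band (eqW (e.1 ++ [3]) ([3] ++ e.1)) (band (isM e.2) (setTo (M24E.ap e.2) 8388609 8388609)))
    (frc (aw 77 e.1 vX) fun y => allLT 77 fun i => frc (img (M24E.ap e.2) (blk oT i)) fun a => frc (bk 112 y i) fun b =>
      not (allLT 77 fun j => not (and (Nat.beq a (blk oT j)) (Nat.beq b (bk 112 vX j)))))

theorem mem_of_genOK {e : List ℕ × ℕ} (h : genOK e = true) : (wv e.1, pm e.2) ∈ Tm := by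
  simp only [genOK, band_eq_true, frc_eq, allLT_iff, Bool.not_eq_true', ← Bool.not_eq_true, not_forall, not_not,
    Bool.and_eq_true, bk_iff] at h
  obtain ⟨⟨h1, h2, h3⟩, h4⟩ := h
  refine ⟨?_, J4T.pm_mem_DD h2 h3, fun i hi => ?_⟩
  · have := wv_eq_wv h1
    rwa [wv_append, wv_append, wv_single] at this
  · obtain ⟨j, hj, h5, h6⟩ := h4 i hi
    exact ⟨j, hj, (vec_aw hi _ _).symm.trans h6, by
      rw [← Nat.eq_of_beq_eq_true h5]; exact ((pm_rp h2).ofMask_img _).symm⟩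

/-- generators of the centraliser -/
def gs : List (List ℕ × ℕ) := [([1], 0xbcab171c3060da9315e8b088a9ae80),
  ([0, 1, 0, 2, 0, 2, 0, 2, 0, 1, 0, 1, 0, 1, 0, 1, 0, 1, 0, 1, 0, 2, 0], 0x1c338cac86560d311e91956aa09d7),
  ([0, 1, 0, 2, 0, 2, 0, 2, 0, 2, 15, 1, 0, 1, 0, 1, 0, 1, 0, 2, 0], 0xba8c488670795ac159281d5d43ae40),
  ([4], 0xbce29b0eae0c18d5aa87418a4909e0),
  ([5], 0xb85127d0ed9b20e5a875898a448ac0),
  ([6], 0xbd6ce8b2693d0725aa01798a468900),
  ([7], 0xbc13171e9664c2f5aaa3918a4409a0),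
  ([8], 0xbba95821336d9e15aa32198a438980),
  ([9], 0xbb2486d46f806765a8f4498a4889c0),
  ([10], 0xbc670ab6d4426435a9cf098a4608e0),
  ([11], 0xbba95821336d9e15aa32198a438980),
  ([12], 0xb9ded44032a8e895a993b18a470a20),
  ([13], 0xbc9811d9a74a2355a9ee818a498a80),
  ([14], 0xbc9811d9a74a2355a9ee818a498a80)]

theorem gs_ok : allL genOK gs = true := by decide +kernel

theorem gs_mem (m : ℕ) : (wv (nth ([], idq) gs m).1, pm (nth ([], idq) gs m).2) ∈ Tm ∧
    isM (nth ([], idq) gs m).2 = true := by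
  have h1 := nth_all (P := fun e => genOK e = true) (d := ([], idq)) (by decide +kernel) (allL_sound gs_ok) m
  exact ⟨mem_of_genOK h1, (band_eq_true.1 (band_eq_true.1 (band_eq_true.1 h1).1).2).1⟩

theorem exists_fst {p : P24} (hp : p ∈ DD) : ∃ g, (g, p) ∈ Tm := by
  have h : ∀ w : List ℕ, ∃ g ∈ Tm.map (MonoidHom.snd _ _),
      Rp (M24E.ap (List.rec idq (fun m _ ih => frc ih (M24E.cmp (nth ([], idq) gs m).2)) w)) g := fun w => by
    induction w with
    | nil => exact ⟨1, one_mem _, M24E.rp_idq⟩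
    | cons m w ih =>
      obtain ⟨g, hg, r⟩ := ih
      refine ⟨_, mul_mem ⟨_, (gs_mem m).1, rfl⟩ hg, ?_⟩
      have := (pm_rp (gs_mem m).2).cmp r
      rwa [← frc_eq _ (M24E.cmp _)] at this
  have h2 : ∀ (w : List ℕ) {q : ℕ}, List.rec idq (fun m _ ih => frc ih (M24E.cmp (nth ([], idq) gs m).2)) w = q →
      pm q ∈ Tm.map (MonoidHom.snd _ _) := fun w q e => by
    obtain ⟨g, hg, r⟩ := h w
    rwa [← e, r.pm_eq]
  obtain ⟨x, hx, rfl⟩ := J4T.gen_DD (h2 [1, 3, 2, 5, 0, 2, 1, 6, 2, 8] (by decide +kernel)) (h2 [1, 0, 0, 1, 0, 2, 9, 2, 0, 3] (by decide +kernel))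
    (h2 [1, 5, 1, 1, 2, 9] (by decide +kernel)) hp
  exact ⟨x.1, hx⟩

theorem snd_eq_one {p : P24} (h : (1, p) ∈ Tm) : p = 1 := by
  obtain ⟨-, h1, h2⟩ := mem_Tm.1 h
  have h3 : ∀ i < 77, p • ofMask (blk oT i) = ofMask (blk oT i) := fun i hi => by
    obtain ⟨j, hj, a, b⟩ := h2 i hi
    rw [b, inj77 hi hj (Or.inl ((one_smul _ _).symm.trans a))]
  have h4 : allLT 24 (fun x => or (not (tb 8388606 x)) (allLT 24 fun y => or (Nat.beq y x)
    (not (allLT 77 fun i => tb (blk oT i) y == tb (blk oT i) x)))) = true := by decide +kernel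
  refine M24E.eq_one_of_fix_base h1.1 (M24E.fix_of_rig (F := 8388606) (L := [5279]) (by decide +kernel) h1.1
    fun x hx => ?_)
  have h5 := of_allLT h4 (Golay.ix_lt x)
  rw [M24E.tb_ix.2 hx, Bool.not_true, Bool.false_or] at h5
  have h6 := of_allLT h5 (Golay.ix_lt (p x))
  rw [(allLT_iff _ _).2 fun i hi => ?_, Bool.not_true, Bool.or_false, Nat.beq_eq] at h6
  · exact Golay.ix_inj.1 h6
  · rw [beq_iff_eq, Bool.eq_iff_iff, M24E.tb_ix, M24E.tb_ix]
    conv_lhs => rw [← h3 i hi]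
    exact M24E.smul_mem_smul' p

theorem snd_unique {g : Spor.J4} {p q : P24} (hp : (g, p) ∈ Tm) (hq : (g, q) ∈ Tm) : p = q := by
  have := mul_mem (inv_mem hp) hq
  rw [Prod.inv_mk, Prod.mk_mul_mk, inv_mul_cancel] at this
  exact inv_mul_eq_one.1 (snd_eq_one this)

theorem vec_76 : vec vX 76 = v0 :=
  (bk_iff (y := 2 ^ 0) (l := 0)).1 (by decide +kernel) |>.trans (Comput.dec2_two_pow (d := 112) _ (by norm_num))

theorem mem_Lam_of_fix {g : Spor.J4} (h : g • v0 = v0) : g ∈ LamJ := by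
  rcases isCoatom_Lam.le_iff.1 (show LamJ ≤ MulAction.stabilizer _ v0 from fun k hk => lam_fix hk) with e | e
  · have h1 : gJ 2 • v0 = v0 := (e.ge (Subgroup.mem_top _) : gJ 2 ∈ MulAction.stabilizer Spor.J4 v0)
    have h2 := congrFun ((act_t.2.2 0 (by norm_num)).symm.trans h1) 1
    rw [Comput.dec2_e2] at h2
    exact absurd h2 (by decide +kernel)
  · exact e ▸ MulAction.mem_stabilizer_iff.2 h

theorem exists_trans {k : ℕ} (hk : k < 77) : ∃ g p, (g, p) ∈ Tm ∧ g • v0 = vec vX k := by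
  have h : allLT 77 (fun k => frc (blk oT k) fun a => and (and (isCode a) (Nat.beq (pc a) 8))
    (and (tb a 0) (tb a 23))) = true := by decide +kernel
  have h1 := of_allLT h hk
  simp only [frc_eq, Bool.and_eq_true, Nat.beq_eq] at h1
  obtain ⟨r, hr, -, e⟩ := J4T.hexad_trans ((Golay.ofMask_mem_octads (blk_lt _ _)).2 h1.1)
    ((M24E.tb_pt (by norm_num)).1 h1.2.1) ((M24E.tb_pt (by norm_num)).1 h1.2.2)
  obtain ⟨g, hg⟩ := exists_fst hr
  obtain ⟨j, hj, a, b⟩ := (mem_Tm.1 hg).2.2 76 (by norm_num)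
  rw [show blk oT 76 = o0 by decide +kernel, e] at b
  exact ⟨g, r, hg, by rw [← vec_76, a, inj77 hk hj (Or.inr b)]⟩

theorem stab_of_comm {a : Finset GolayPt} {g : M24}
    (h : Phi iotaJ (gJ 2) a * iotaJ g * uJ = uJ * (Phi iotaJ (gJ 2) a * iotaJ g)) :
    g ∈ MulAction.stabilizer M24 (sext (ofMask cU)) := by
  have h4 : (g • ofMask cU).card = 4 := by rw [Finset.card_smul_finset, card_cU]
  have h1 := hypJ.conj_phi a g (b := ofMask cU) (card_cU ▸ by decide)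
  rw [hypJ.phi_cU, h, mul_inv_cancel_right, uJ, ← hypJ.phi_cU] at h1
  rw [MulAction.mem_stabilizer_iff, smul_sext]
  exact (eq_sext (sext_mem card_cU) (mem_sext.2 ⟨h4, (hypJ.mk_inj uu_ne (card_cU ▸ by decide) (h4 ▸ by decide)
    (congrArg (· * iotaJ 1) h1)).1⟩)).symm

theorem exists_snd_Lam {g : Spor.J4} (hg : g ∈ LamJ) (h : g * uJ = uJ * g) : ∃ p, (g, p) ∈ Tm := by
  obtain ⟨a, ha, k, rfl⟩ := hg
  have h0 : ∀ m, wv (nth ([], idq) gs m).1 ∈ Tm.map (MonoidHom.fst _ _) := fun m => ⟨_, (gs_mem m).1, rfl⟩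
  have h1 : Phi iotaJ (gJ 2) a ∈ Tm.map (MonoidHom.fst _ _) := by
    refine even_induction span_Ss (P := fun a => Phi iotaJ (gJ 2) a ∈ Tm.map (MonoidHom.fst _ _))
      (fun a ha => phi_code (ι := iotaJ) ha ▸ one_mem _) (fun a b ha hb => hypJ.phi_mul a b ▸ mul_mem ha hb)
      (fun b hb => ?_) ha
    obtain ⟨m, -, h2, h3⟩ : ∃ m < 14, evB b = true ∧ band (lamW (nth ([], idq) gs m).1)
      (eqL (evW cA (nth ([], idq) gs m).1) (oneL + b)) = true := by revert b; decide +kernel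
    exact wv_eq (rep_phi h2) h3 ▸ h0 m
  have h3 : iotaJ (gM 1) ∈ Tm.map (MonoidHom.fst Spor.J4 P24) :=
    iotaJ_y ▸ (show wv (nth ([], idq) gs 0).1 = gJ 1 from wv_single 1) ▸ h0 0
  have h4 : iotaJ (mk 469363406418614917308997793978783829) ∈ Tm.map (MonoidHom.fst Spor.J4 P24) :=
    wv_eq (w := (nth ([], idq) gs 1).1) (rep_mk (p := 469363406418614917308997793978783829) (by decide +kernel))
      (by decide +kernel) ▸ h0 1
  have h2 : iotaJ k ∈ Tm.map (MonoidHom.fst Spor.J4 P24) :=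
    stabU_le (K := (Tm.map (MonoidHom.fst Spor.J4 P24)).comap iotaJ) h3 h4 (stab_of_comm h)
  obtain ⟨x, hx, e⟩ := mul_mem h1 h2
  exact ⟨x.2, e ▸ hx⟩

theorem exists_snd {g : Spor.J4} (h : g * uJ = uJ * g) : ∃ p, (g, p) ∈ Tm := by
  rcases main_Q (g := g) hypJ.uu_mem_Q uu_ne (by rw [mul_assoc, ← h, inv_mul_cancel_left]; exact hypJ.uu_mem_Q) with
    h1 | ⟨m, hm, h1, i, hi, h2⟩
  · exact exists_snd_Lam h1 h
  obtain ⟨p, hp⟩ := exists_snd_Lam hm (by rw [← h1, ← mul_assoc, mul_inv_cancel_left, h1])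
  obtain ⟨k, hk, h3, -⟩ := (mem_Tm.1 hp).2.2 i hi
  obtain ⟨x, q, hx, h4⟩ := exists_trans hk
  obtain ⟨r, hr⟩ := exists_snd_Lam (g := x⁻¹ * g) (mem_Lam_of_fix (by rw [mul_smul, h2, h3, ← h4, inv_smul_smul]))
    (by rw [mul_assoc, h, ← mul_assoc, show x⁻¹ * uJ = uJ * x⁻¹ from (inv_mem hx).1, mul_assoc])
  exact ⟨q * r, by simpa using mul_mem hx hr⟩

open Classical in
/-- the map to `M22.2` -/
noncomputable def thJ (g : Spor.J4) : P24 := if h : ∃ p, (g, p) ∈ Tm then h.choose else 1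

theorem thJ_spec {g : Spor.J4} (h : g * uJ = uJ * g) : (g, thJ g) ∈ Tm := by
  rw [thJ, dif_pos (exists_snd h)]; exact (exists_snd h).choose_spec

theorem thJ_eq {g : Spor.J4} {p : P24} (h : (g, p) ∈ Tm) : thJ g = p := snd_unique (thJ_spec (mem_Tm.1 h).1) h

/-- the kernel -/
def KJ : Subgroup Spor.J4 := Tm.comap (MonoidHom.inl _ _)

theorem mem_KJ {g : Spor.J4} : g ∈ KJ ↔ (g, 1) ∈ Tm := Iff.rfl

theorem card_stabU : Nat.card (MulAction.stabilizer M24 (sext (ofMask cU))) = 138240 := by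
  have h4 := card_stabilizer (x := sext (ofMask cU)) rfl
  obtain ⟨g, hg⟩ := trans_sext (sext_mem card_cU)
  rw [← hg, MulAction.orbit_smul, orbit_S0, ncard_sextets, hg] at h4
  omega

theorem card_KJ_le : Nat.card KJ ≤ 24576 := by
  choose x q hx e using fun k : Fin 77 => exists_trans k.2
  let f : Fin 77 × Fin 2048 × MulAction.stabilizer M24 (sext (ofMask cU)) → Spor.J4 := fun a =>
    x a.1 * (phJ (encL Ss a.2.1) * iotaJ a.2.2)
  have h1 : ∀ y : Tm, y.1.1 ∈ Set.range f := fun ⟨⟨g, p⟩, hg⟩ => by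
    obtain ⟨k, hk, h2, -⟩ := (mem_Tm.1 hg).2.2 76 (by norm_num)
    have h3 : (x ⟨k, hk⟩)⁻¹ * g * uJ = uJ * ((x ⟨k, hk⟩)⁻¹ * g) := (mul_mem (inv_mem (hx ⟨k, hk⟩)) hg).1
    obtain ⟨a, ha, s, h4⟩ := mem_Lam_of_fix (g := (x ⟨k, hk⟩)⁻¹ * g) (by
      rw [mul_smul, ← vec_76, h2, ← e ⟨k, hk⟩, inv_smul_smul, vec_76])
    obtain ⟨c, hc, h5⟩ := hypJ.exists_Ss ha
    refine ⟨(⟨k, hk⟩, ⟨c, hc⟩, ⟨s, stab_of_comm (h4 ▸ h3)⟩), ?_⟩
    change x ⟨k, hk⟩ * (Phi iotaJ (gJ 2) (ofMask (encL Ss c)) * iotaJ s) = g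
    rw [← h5, ← h4, mul_inv_cancel_left]
  have h2 := (Nat.card_le_card_of_injective (fun y : Tm => (⟨_, h1 y⟩ : Set.range f)) fun y z h => by
    have h3 : y.1.1 = z.1.1 := congrArg Subtype.val h
    exact Subtype.ext (Prod.ext h3 (snd_unique y.2 (h3 ▸ z.2)))).trans (Finite.card_range_le f)
  let π : Tm →* P24 := (MonoidHom.snd _ _).comp Tm.subtype
  have h3 : π.range = DD := le_antisymm (by rintro _ ⟨y, rfl⟩; exact y.2.2.1) fun p hp =>
    let ⟨g, hg⟩ := exists_fst hp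
    ⟨⟨_, hg⟩, rfl⟩
  have h4 := π.ker.card_mul_index
  have h5 := Nat.card_le_card_of_injective (fun g : KJ => (⟨⟨(g, 1), g.2⟩, rfl⟩ : π.ker)) fun y z h =>
    Subtype.ext (congrArg (fun a : π.ker => a.1.1.1) h)
  rw [Subgroup.index_ker, h3, J4T.card_DD] at h4
  rw [Nat.card_prod, Nat.card_prod, card_stabU, Nat.card_eq_fintype_card (α := Fin 77),
    Nat.card_eq_fintype_card (α := Fin 2048), Fintype.card_fin, Fintype.card_fin] at h2
  omega

end CfsgLib.J4
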