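import Mathlib
import Cfsg.Agent.Lib.J4.CTh
import Cfsg.Agent.Lib.J4T.Defs2

/-!
# The centraliser of the involution `u` of `J4` is `2^(1+12).3.M22.2`
-/

set_option autoImplicit false
set_option maxRecDepth 100000
set_option Elab.async false
set_option synthInstance.maxSize 10000

namespace CfsgLib.J4

open Cfsg CfsgLib.CosetEnum CfsgLib.MOrb
open CfsgLib.Golay (ofMask isCode encL codeSets ofMask_xor allLT of_allLT allLT_iff pc)
open CfsgLib.Mathieu (comp idc inM24)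
open CfsgLib.Comput (band band_eq_true)
open CfsgLib.M24E (P24 pm idq)
open CfsgLib.ExtraTwo (ES)
open scoped Pointwise

section
variable {G : Type*} [Group G] {E K : Subgroup G} {r : G}

theorem eq_of_card [Finite G] (hE : E ≤ K) (hr : r ∈ K) (h3 : r ^ 3 = 1) (h0 : r ∉ E)
    (h : Nat.card K ≤ 3 * Nat.card E) {x : G} (hx : x ∈ K) : ∃ e ∈ E, ∃ i : ℕ, x = e * r ^ i := by
  have h1 : r ^ 2 ∉ E := fun h1 => h0 (by
    have := mul_mem h1 h1
    rwa [← pow_add, show 2 + 2 = 3 + 1 from rfl, pow_add, h3, one_mul, pow_one] at this)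
  have h2 : ∀ {e f : G} {i j : ℕ}, e ∈ E → f ∈ E → i < j → j < 3 → e * r ^ i ≠ f * r ^ j := fun {e f i j} he hf a b c => by
    obtain ⟨k, rfl⟩ := Nat.exists_eq_add_of_lt a
    rw [add_assoc, add_comm, pow_add, ← mul_assoc, mul_left_inj] at c
    have h4 := (mul_mem_cancel_left hf).1 (c ▸ he)
    rcases (by omega : k = 0 ∨ k = 1) with rfl | rfl
    exacts [h0 (pow_one r ▸ h4), h1 h4]
  have h4 : Function.Injective fun a : Fin 3 × E => (⟨a.2 * r ^ (a.1 : ℕ), mul_mem (hE a.2.2) (pow_mem hr _)⟩ : K) := by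
    rintro ⟨i, e⟩ ⟨j, f⟩ c
    have c : (e : G) * r ^ (i : ℕ) = f * r ^ (j : ℕ) := congrArg Subtype.val c
    obtain rfl : i = j := Fin.ext (le_antisymm (not_lt.1 fun a => h2 f.2 e.2 a i.2 c.symm)
      (not_lt.1 fun a => h2 e.2 f.2 a j.2 c))
    rw [Subtype.ext (mul_right_cancel c)]
  obtain ⟨⟨i, e⟩, c⟩ := (h4.bijective_of_nat_card_le (by simpa using h)).2 ⟨x, hx⟩
  exact ⟨e, e.2, i, (congrArg Subtype.val c).symm⟩

theorem mem_of_pow_four (hr : ∀ e ∈ E, r * e * r⁻¹ ∈ E) (h3 : r ^ 3 = 1) {e : G} (he : e ∈ E) {i : ℕ}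
    (h : (e * r ^ i) ^ 4 = 1) : e * r ^ i ∈ E := by
  have h1 : ∀ n : ℕ, r ^ n * e * (r ^ n)⁻¹ ∈ E := fun n => by
    induction n with
    | zero => simpa using he
    | succ n ih => convert hr _ ih using 1; group
  have h2 := mul_mem (mul_mem (mul_mem he (h1 i)) (h1 (i * 2))) he
  have h4 : (r ^ i) ^ 3 = 1 := by rw [← pow_mul, mul_comm, pow_mul, h3, one_pow]
  rw [pow_mul] at h2
  generalize r ^ i = s at *
  have h5 : (e * s) ^ 4 = e * (s * e * s⁻¹) * (s ^ 2 * e * (s ^ 2)⁻¹) * s ^ 3 * e * s := by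
    simp only [pow_succ, pow_zero, one_mul]; group
  rw [h, h4, mul_one, eq_comm, mul_eq_one_iff_inv_eq] at h5
  exact mul_mem he (h5 ▸ inv_mem h2)

end

/-- a basis of the intersection of `Q` with the extraspecial group -/
def Bs : List ℕ := [18504, 532737, 8833, 524544, 51, 1572869, 524292]

/-- the hexacode group -/
def hxT : ℕ := 0x9dab4ba49038dac306427acb1721409daa0bc950798ac1c5223b9a15a0949c194bc8367adb57112238caa322209c180ba6363b8b55aa42799a41a034156c044a2c7acb07293338da435c34156d44242c3b9b059253798aa1de20132004255538cb6346537ada175c941321444895799b6185333b8b15dd409b214b9d554b9b65c5e2918a11a0809b200bbc9592cb6704e248db1321549d6d4bbe2c919b01a8e24b8a45a0209d6c0b9c2c48cb0311e292daa722341418043c36918b5190f34b9aa5de341419441e3648db5329f392ca475c2015aa041c904b8ac585f3919b11dd5415ab443d5092dac744f348ca135c809d6c5ba54c3ac107464278e813208d9d6cdbc88c7ba9058522398111a1459b205bca3578c163292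23ae847202d9b20dba43539a96192427b80a5a22515aad4483078e8c311333ac0a75e2515aa5426303980c1aa537ba845dc2d1418d424963ae957065378c1135d4514185449567b8155c53339a811dc8d9c185b9c9649815185e293a915a14d9c18dbbd5690e95344e24ac01720859daa5bbc309380c590e249a8a1a22d9daadb9e304ae8c729e290c04320251320d43e3593a965a8f3498041dc251320541c354ac16711f390e8a35e2d156cd41d4c49a901c5f3938015dc85156c543c8c90c10304f34ae9175d4d456c511e2c4b8105a9f791a841cc2d456cd13c2c92e90710f748c0a34e254320513d55918161c4f74ba815cc8d4320d11c9548e96305f792c1174d45bdaad9bc9091a8c184e84b81158945bdaa599d5048c0c345e892e817088dbc18d99c364ba95591e89180a18a25bc1859be3692c15728e848e843082d441851243638c15312577ae8a74e2d4418d14a3679a951a9373b8045cc2545aa5148907ac0c7053738e9134d4d45aad125503ba8c5c657798011cc85bb20d9c9557ae967452838c0130885bb2059a4953b8165864879a911894dbd6cd9a62c38e9032a487ac0470825bd6c59c82c79810191283ba8a58a2d45ab411c30499ac19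1f7938aa5ce2045aa013e3090cac328f74ada474c344419413c96939b5584f7498b11cd404418011d564acb5745f790da134c94bd6c09bd4c938b05c4e8499a118894bd6d499c8c4adb0705e890cb130940bb20099e35498b61a9e8939a458834bb2149bc3590db6310e84acaa70a2043214126353adb672a5778ca434c2043200148357b8b659137399aa1ce34456d41494c78db0345373aca174c80456c01248c398b0186577b9b15cd54bc1809c89678cb5305283adb170954bc1949a556399b51c6487b8a158880bdaa09a4303acac7124878daa30a34bdab49ca307b9ac5a928398a418820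

/-- element number `u` of the hexacode group -/
def hx (u : ℕ) : ℕ := Nat.land (Nat.shiftRight hxT (Nat.mul 120 u)) 0xffffffffffffffffffffffffffffff

/-- the pairing -/
def bt (u w : ℕ) : ℕ := Nat.land (pc (Nat.land u (Nat.shiftRight w 1))) 1

/-- an element of order 3 that fixes the tetrads -/
def p3 : ℕ := 810866741132145702673780306738535456

/-- its action -/
noncomputable def rB (w : ℕ) : ℕ := encL [1, 35, 58, 72, 86, 3, 9] w

/-- its action -/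
noncomputable def rH (u : ℕ) : ℕ := encL [26, 10, 34, 2, 19, 44] u

theorem bt_lt (u w : ℕ) : bt u w < 2 := Nat.lt_succ_of_le Nat.and_le_right

theorem hx_ok {u : ℕ} (hu : u < 64) : inM24 (hx u) = true ∧ (∀ v < 64, comp (hx u) (hx v) = hx (u ^^^ v)) ∧
    (∀ w < 128, isCode (Nat.xor (im (hx u) (encL Bs w)) (encL Bs (w ^^^ bt u w))) = true) ∧ (hx u = idc → u = 0) ∧
    rH u < 64 ∧ comp p3 (hx u) = comp (hx (rH u)) p3 ∧ (rH u = u → u = 0) ∧ bt u 0 = 0 ∧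
    (bt u 2 = 0 → bt u 4 = 0 → bt u 8 = 0 → bt u 16 = 0 → bt u 32 = 0 → bt u 64 = 0 → u = 0) := by
  have h : allLT 64 (fun u => frc (hx u) fun p => and (and (inM24 p) (allLT 64 fun v => Nat.beq (comp p (hx v))
    (hx (u ^^^ v)))) (allLT 128 fun w => isCode (Nat.xor (im p (encL Bs w)) (encL Bs (w ^^^ bt u w))))) = true := by
    decide +kernel
  have h1 := of_allLT h hu
  simp only [frc_eq, Bool.and_eq_true, allLT_iff, Nat.beq_eq] at h1
  refine ⟨h1.1.1, h1.1.2, h1.2, ?_⟩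
  clear h h1
  revert u
  decide +kernel

theorem bs_ok {w : ℕ} (hw : w < 128) : evB (encL Bs w) = true ∧ (isCode (encL Bs w) = true → w = 0) ∧ rB w < 128 ∧
    isCode (Nat.xor (im p3 (encL Bs w)) (encL Bs (rB w))) = true ∧ (rB w = w → w < 2) ∧ bt 0 w = 0 ∧
    (bt 1 w = 0 → bt 2 w = 0 → bt 4 w = 0 → bt 8 w = 0 → bt 16 w = 0 → bt 32 w = 0 → w < 2) := by
  revert w
  decide +kernel

/-- the elements of the extraspecial group -/
noncomputable def eJ (w u : ℕ) : Spor.J4 := phJ (encL Bs w) * iotaJ (mk (hx u))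

/-- the element of order 3 -/
noncomputable def rJ : Spor.J4 := iotaJ (mk p3)

theorem p3_ok : inM24 p3 = true := by decide +kernel

theorem eJ_mul {w u w' u' : ℕ} (hu : u < 64) (hw' : w' < 128) (hu' : u' < 64) :
    eJ w u * eJ w' u' = eJ (w ^^^ (w' ^^^ bt u w')) (u ^^^ u') := by
  have h := hx_ok hu
  rw [eJ, eJ, eJ, mul_assoc, ← mul_assoc (iotaJ _), hypJ.iota_phi _ (even_of_evB (bs_ok hw').1),
    mk_smul_ofMask (okP_of_inM24 h.1), hypJ.phi_xor (h.2.2.1 _ hw'), mul_assoc, ← map_mul, mk_mul h.1 (hx_ok hu').1,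
    h.2.1 _ hu', ← mul_assoc, ← hypJ.phi_mul, ← ofMask_xor, ← Golay.encL_xor]

theorem eJ_inj {w u w' u' : ℕ} (hw : w < 128) (hu : u < 64) (hw' : w' < 128) (hu' : u' < 64)
    (h : eJ w u = eJ w' u') : w = w' ∧ u = u' := by
  obtain ⟨h1, h2⟩ := hypJ.mk_inj uu_ne (even_of_evB (bs_ok hw).1) (even_of_evB (bs_ok hw').1) h
  have h3 := bs_ok (Nat.xor_lt_two_pow (n := 7) hw hw')
  rw [← ofMask_xor, ← Golay.encL_xor, Golay.ofMask_mem_iff (Nat.blt_eq ▸ (Bool.and_eq_true_iff.1 h3.1).1)] at h1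
  refine ⟨Nat.xor_eq_zero_iff.1 (h3.2.1 h1), Nat.xor_eq_zero_iff.1
    ((hx_ok (Nat.xor_lt_two_pow (n := 6) hu hu')).2.2.2.1 ?_)⟩
  rw [← (hx_ok hu).2.1 _ hu', mk_inj (hx_ok hu).1 (hx_ok hu').1 h2, (hx_ok hu').2.1 _ hu', Nat.xor_self]
  decide +kernel

theorem eJ_zero (w : ℕ) : eJ w 0 = phJ (encL Bs w) := by
  rw [eJ, show hx 0 = idc by decide +kernel, mk_idc, map_one, mul_one]

theorem eJ_00 : eJ 0 0 = 1 := by rw [eJ_zero]; exact phi_code (Golay.mem_of_isCode (by decide +kernel))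

theorem eJ_10 : eJ 1 0 = uJ := by rw [eJ_zero, show encL Bs 1 = cU by decide +kernel]; exact hypJ.phi_cU

theorem xor_lt7 {a b c : ℕ} (ha : a < 128) (hb : b < 128) (hc : c < 2) : a ^^^ (b ^^^ c) < 128 :=
  Nat.xor_lt_two_pow (n := 7) ha (Nat.xor_lt_two_pow (n := 7) hb (by omega))

/-- the extraspecial group -/
noncomputable def EJ : Subgroup Spor.J4 := toSub
  { carrier := {x | ∃ w < 128, ∃ u < 64, x = eJ w u}
    one_mem' := ⟨0, by norm_num, 0, by norm_num, eJ_00.symm⟩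
    mul_mem' := by
      rintro _ _ ⟨w, hw, u, hu, rfl⟩ ⟨w', hw', u', hu', rfl⟩
      exact ⟨_, xor_lt7 hw hw' (bt_lt _ _), _, Nat.xor_lt_two_pow (n := 6) hu hu', eJ_mul hu hw' hu'⟩ }

theorem eJ_mem {w u : ℕ} (hw : w < 128) (hu : u < 64) : eJ w u ∈ EJ := ⟨w, hw, u, hu, rfl⟩

theorem eJ_cases {w : ℕ} (hw : w < 2) : eJ w 0 = 1 ∨ eJ w 0 = uJ := by
  interval_cases w
  exacts [Or.inl eJ_00, Or.inr eJ_10]

theorem comm_iff {w u w' u' : ℕ} (hw : w < 128) (hu : u < 64) (hw' : w' < 128) (hu' : u' < 64) :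
    eJ w u * eJ w' u' = eJ w' u' * eJ w u ↔ bt u w' = bt u' w := by
  rw [eJ_mul hu hw' hu', eJ_mul hu' hw hu]
  refine ⟨fun h => ?_, fun h => by rw [h, Nat.xor_comm u, ← Nat.xor_assoc, Nat.xor_comm w, Nat.xor_assoc]⟩
  have := (eJ_inj (xor_lt7 hw hw' (bt_lt _ _)) (Nat.xor_lt_two_pow (n := 6) hu hu') (xor_lt7 hw' hw (bt_lt _ _))
    (Nat.xor_lt_two_pow (n := 6) hu' hu) h).1
  rwa [← Nat.xor_assoc, ← Nat.xor_assoc, Nat.xor_comm w, Nat.xor_right_inj] at this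

theorem card_EJ : Nat.card EJ = 8192 :=
  (Nat.card_eq_of_bijective (fun c : Fin 128 × Fin 64 => (⟨_, eJ_mem c.1.2 c.2.2⟩ : EJ)) ⟨fun c d e =>
    have h := eJ_inj c.1.2 c.2.2 d.1.2 d.2.2 (congrArg Subtype.val e)
    Prod.ext (Fin.ext h.1) (Fin.ext h.2), fun ⟨_, w, hw, u, hu, e⟩ => ⟨(⟨w, hw⟩, ⟨u, hu⟩), Subtype.ext e.symm⟩⟩).symm.trans
    (by simp)

theorem mem_KJ_of {c : ℕ} {x : Spor.J4} (hx : Rep iotaJ (gJ 2) c x) (w : List ℕ)
    (h : band (genOK (w, idq)) (band (lamW w) (eqL (evW cA w) c)) = true) : x ∈ KJ := by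
  obtain ⟨h1, h2⟩ := band_eq_true.1 h
  have := mem_of_genOK h1
  rwa [wv_eq hx h2, M24E.rp_idq.pm_eq] at this

theorem rJ_mem : rJ ∈ KJ := mem_KJ_of (rep_mk p3_ok) [0, 1, 0, 1, 0, 1, 0, 1, 0, 2, 0, 1, 0, 1, 0, 1, 0, 1, 0, 2, 0, 1, 0, 1, 0, 2, 0, 2, 0, 1, 0, 2, 0, 1, 0, 1, 0, 1, 0, 1, 0, 2, 0] (by decide +kernel)

theorem EJ_le : EJ ≤ KJ := by
  rintro _ ⟨w, -, u, hu, rfl⟩
  refine mul_mem (Golay.encL_induction (P := fun a => phJ a ∈ KJ) ?_ (fun a b ha hb => ?_) Bs ?_ w) ?_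
  · rw [phJ, Golay.ofMask_zero, phi_code Golay.empty_mem_codeSets]; exact one_mem _
  · rw [phJ, ofMask_xor, hypJ.phi_mul]; exact mul_mem ha hb
  · simp only [Bs, List.forall_mem_cons, List.not_mem_nil, IsEmpty.forall_iff, implies_true, and_true]
    exact ⟨mem_KJ_of (rep_phi (by decide +kernel)) [4, 5, 10, 11, 14] (by decide +kernel),
      mem_KJ_of (rep_phi (by decide +kernel)) [4, 6, 8, 10, 11] (by decide +kernel),
      mem_KJ_of (rep_phi (by decide +kernel)) [5, 9, 11, 13, 14] (by decide +kernel),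
      mem_KJ_of (rep_phi (by decide +kernel)) [4, 7, 8] (by decide +kernel),
      mem_KJ_of (rep_phi (by decide +kernel)) [4, 5, 8, 9, 11, 12, 14] (by decide +kernel),
      mem_KJ_of (rep_phi (by decide +kernel)) [4, 7, 8, 9, 10, 11, 12] (by decide +kernel),
      mem_KJ_of (rep_phi (by decide +kernel)) [5, 7, 8, 9, 12, 13] (by decide +kernel)⟩
  · have h := Golay.encL_induction (P := fun u => u < 64 ∧ iotaJ (mk (hx u)) ∈ KJ)
      ⟨by norm_num, by rw [show hx 0 = idc by decide +kernel, mk_idc, map_one]; exact one_mem _⟩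
      (fun a b ha hb => ⟨Nat.xor_lt_two_pow (n := 6) ha.1 hb.1, by
        rw [← (hx_ok ha.1).2.1 _ hb.1, ← mk_mul (hx_ok ha.1).1 (hx_ok hb.1).1, map_mul]; exact mul_mem ha.2 hb.2⟩)
      [1, 2, 4, 8, 16, 32] ?_ u
    · rw [(by decide +kernel : ∀ u < 64, encL [1, 2, 4, 8, 16, 32] u = u) u hu] at h
      exact h.2
    simp only [List.forall_mem_cons, List.not_mem_nil, IsEmpty.forall_iff, implies_true, and_true]
    exact ⟨⟨by norm_num, mem_KJ_of (rep_mk (hx_ok (by norm_num)).1) [0, 1, 0, 1, 0, 2, 0, 1, 0, 1, 0, 1, 0, 2, 0, 2, 0, 1, 0, 1, 0, 1, 0, 2, 0, 1, 0, 1, 0, 1, 0, 1, 0, 1, 0, 2, 0, 2, 0, 2] (by decide +kernel)⟩,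
      ⟨by norm_num, mem_KJ_of (rep_mk (hx_ok (by norm_num)).1) [2, 0, 1, 0, 1, 0, 2, 0, 1, 0, 1, 0, 1, 0, 2, 0, 2, 0, 1, 0, 1, 0, 1, 0, 2, 0, 1, 0, 1, 0, 1, 0, 1, 0, 1, 0, 2, 0, 2, 0] (by decide +kernel)⟩,
      ⟨by norm_num, mem_KJ_of (rep_mk (hx_ok (by norm_num)).1) [0, 1, 0, 2, 0, 2, 0, 2, 0, 1, 0, 1, 0, 2, 0, 1, 0, 2, 0, 1, 0, 2, 0, 1, 0, 2, 0, 1, 0, 2, 0, 1, 0, 1, 0, 1, 0, 1, 0, 1, 0, 2, 0] (by decide +kernel)⟩,
      ⟨by norm_num, mem_KJ_of (rep_mk (hx_ok (by norm_num)).1) [0, 2, 0, 1, 0, 1, 0, 2, 0, 2, 0, 1, 0, 1, 0, 2, 0, 1, 0, 2, 0, 2, 0, 2, 0, 1, 0, 2, 0, 1, 0, 1, 0, 2, 0, 2, 0, 1, 0, 1, 0, 1, 0] (by decide +kernel)⟩,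
      ⟨by norm_num, mem_KJ_of (rep_mk (hx_ok (by norm_num)).1) [0, 1, 0, 2, 0, 2, 0, 2, 0, 1, 0, 2, 0, 1, 0, 1, 0, 1, 0, 2, 0, 1, 0, 1, 0, 2, 0, 2, 0, 2, 0, 1, 0, 2, 0, 1, 0, 1, 0, 1, 0, 2, 0, 1] (by decide +kernel)⟩,
      ⟨by norm_num, mem_KJ_of (rep_mk (hx_ok (by norm_num)).1) [0, 1, 0, 1, 0, 1, 0, 1, 0, 2, 0, 1, 0, 1, 0, 1, 0, 2, 0, 1, 0, 2, 0, 1, 0, 2, 0, 1, 0, 2, 0, 2, 0, 2, 0, 1, 0, 2, 0, 2, 0, 2, 0, 2, 0] (by decide +kernel)⟩⟩

theorem es_EJ : ES EJ uJ where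
  ne_one := uu_ne
  mul_self := hypJ.uu_sq
  mem := eJ_10 ▸ eJ_mem (by norm_num) (by norm_num)
  comm_z := fun x hx => (EJ_le hx).1
  center := by
    rintro _ ⟨w, hw, u, hu, rfl⟩ h
    have h1 : ∀ w' < 128, bt u w' = 0 := fun w' hw' => by
      rw [← (comm_iff (u := 0) hw' (by norm_num) hw hu).1 (h _ (eJ_mem hw' (by norm_num))), (bs_ok hw).2.2.2.2.2.1]
    have h2 : ∀ u' < 64, bt u' w = 0 := fun u' hu' => by
      rw [(comm_iff (by norm_num) hu' hw hu).1 (h _ (eJ_mem (w := 0) (by norm_num) hu')), (hx_ok hu).2.2.2.2.2.2.2.1]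
    rw [(hx_ok hu).2.2.2.2.2.2.2.2 (h1 _ (by norm_num)) (h1 _ (by norm_num)) (h1 _ (by norm_num)) (h1 _ (by norm_num))
      (h1 _ (by norm_num)) (h1 _ (by norm_num))]
    exact eJ_cases ((bs_ok hw).2.2.2.2.2.2 (h2 _ (by norm_num)) (h2 _ (by norm_num)) (h2 _ (by norm_num))
      (h2 _ (by norm_num)) (h2 _ (by norm_num)) (h2 _ (by norm_num)))
  comm := by
    rintro _ ⟨w, hw, u, hu, rfl⟩ _ ⟨w', hw', u', hu', rfl⟩
    rw [comm_iff hw hu hw' hu', or_iff_not_imp_left, ← eJ_10, eJ_mul hu hw' hu', eJ_mul hu' hw hu,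
      eJ_mul (by norm_num) (xor_lt7 hw' hw (bt_lt _ _)) (Nat.xor_lt_two_pow (n := 6) hu' hu),
      (bs_ok (xor_lt7 hw' hw (bt_lt _ _))).2.2.2.2.2.1, Nat.xor_zero, Nat.zero_xor, Nat.xor_comm u]
    intro h
    rw [(by decide : ∀ a < 2, ∀ b < 2, a ≠ b → a = 1 ^^^ b) _ (bt_lt _ _) _ (bt_lt _ _) h]
    congr 1
    ac_rfl
  nonab := ⟨_, eJ_mem (w := 0) (u := 1) (by norm_num) (by norm_num), _,
    eJ_mem (w := 2) (u := 0) (by norm_num) (by norm_num), fun h =>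
      absurd ((comm_iff (by norm_num) (by norm_num) (by norm_num) (by norm_num)).1 h) (by decide +kernel)⟩

theorem rJ_conj {w u : ℕ} (hw : w < 128) (hu : u < 64) : rJ * eJ w u * rJ⁻¹ = eJ (rB w) (rH u) := by
  have h := hx_ok hu
  rw [mul_inv_eq_iff_eq_mul, eJ, eJ, rJ, ← mul_assoc, hypJ.iota_phi _ (even_of_evB (bs_ok hw).1),
    mk_smul_ofMask (okP_of_inM24 p3_ok), hypJ.phi_xor (bs_ok hw).2.2.2.1, mul_assoc, mul_assoc, ← map_mul, ← map_mul,
    mk_mul p3_ok h.1, mk_mul (hx_ok h.2.2.2.2.1).1 p3_ok, h.2.2.2.2.2.1]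

theorem rJ_three : rJ ^ 3 = 1 := by
  rw [pow_three, rJ, ← map_mul, ← map_mul, mk_mul p3_ok p3_ok, mk_mul p3_ok (by decide +kernel),
    show comp p3 (comp p3 p3) = idc by decide +kernel, mk_idc, map_one]

theorem fpf_rJ {e : Spor.J4} (he : e ∈ EJ) (h : e * rJ = rJ * e) : e = 1 ∨ e = uJ := by
  obtain ⟨w, hw, u, hu, rfl⟩ := he
  have h1 := rJ_conj hw hu
  rw [← h, mul_inv_cancel_right] at h1
  obtain ⟨h2, h3⟩ := eJ_inj hw hu (bs_ok hw).2.2.1 (hx_ok hu).2.2.2.2.1 h1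
  rw [(hx_ok hu).2.2.2.2.2.2.1 h3.symm]
  exact eJ_cases ((bs_ok hw).2.2.2.2.1 h2.symm)

theorem rJ_ne : rJ ≠ 1 := fun h => by
  obtain ⟨x, hx, y, hy, e⟩ := es_EJ.nonab
  rcases fpf_rJ hx (by rw [h, one_mul, mul_one]) with rfl | rfl
  exacts [e ((one_mul y).trans (mul_one y).symm), e (es_EJ.comm_z y hy).symm]

theorem mem_KJ_iff {x : Spor.J4} : x ∈ KJ ↔ ∃ e ∈ EJ, ∃ i : ℕ, x = e * rJ ^ i := by
  refine ⟨eq_of_card EJ_le rJ_mem rJ_three (fun h => rJ_ne ?_) (card_EJ ▸ card_KJ_le), ?_⟩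
  · have := es_EJ.pow_four h
    rwa [pow_succ, rJ_three, one_mul] at this
  · rintro ⟨e, he, i, rfl⟩
    exact mul_mem (EJ_le he) (pow_mem rJ_mem i)

theorem norm_EJ {g x : Spor.J4} (hg : g * uJ = uJ * g) (hx : x ∈ EJ) : g * x * g⁻¹ ∈ EJ := by
  have h1 := mul_mem (mul_mem (thJ_spec hg) (mem_KJ.1 (EJ_le hx))) (inv_mem (thJ_spec hg))
  rw [Prod.inv_mk, Prod.mk_mul_mk, Prod.mk_mul_mk, mul_one, mul_inv_cancel] at h1
  obtain ⟨e, he, i, h2⟩ := mem_KJ_iff.1 h1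
  rw [h2]
  refine mem_of_pow_four ?_ rJ_three he (by rw [← h2, conj_pow, es_EJ.pow_four hx]; simp)
  rintro _ ⟨w, hw, u, hu, rfl⟩
  rw [rJ_conj hw hu]
  exact eJ_mem (bs_ok hw).2.2.1 (hx_ok hu).2.2.2.2.1

/-- the centraliser of the element attached to a duad lies in `Λ` -/
theorem cent_duad {d : Finset GolayPt} (hd : d.card = 2) {g : Spor.J4}
    (h : Phi iotaJ (gJ 2) d * g = g * Phi iotaJ (gJ 2) d) : g ∈ LamJ := by
  have h0 : Even d.card := hd ▸ by decide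
  have h1 : ∀ {s : Finset GolayPt}, s ∈ codeSets → s.card ≤ 6 → s.card = 0 := fun h h' =>
    Finset.card_eq_zero.2 (Golay.eq_empty_of_card_lt h (by omega))
  refine (main_Q ⟨d, h0, rfl⟩ (fun e => ?_) (by rw [mul_assoc, h, inv_mul_cancel_left]; exact ⟨d, h0, rfl⟩)).resolve_right ?_
  · have := h1 ((hypJ.phi_eq_one uu_ne h0).1 e)
    omega
  · rintro ⟨m, hm, e, -⟩
    obtain ⟨a, -, k, rfl⟩ := hm
    have h2 := hypJ.conj_phi a k (b := ofMask cU) (card_cU ▸ by decide)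
    have h4 : (k • ofMask cU).card = 4 := by rw [Finset.card_smul_finset, card_cU]
    rw [hypJ.phi_cU, ← show _ = uu iotaJ (gJ 2) from e, ← mul_assoc, mul_inv_cancel_right, mul_inv_cancel_left] at h2
    have h3 := h1 (hypJ.mk_inj uu_ne h0 (h4 ▸ by decide) (congrArg (· * iotaJ 1) h2)).1
    have h5 := Golay.card_symmDiff_add d (k • ofMask cU)
    have h6 := Finset.card_le_card (Finset.inter_subset_left (s₁ := d) (s₂ := k • ofMask cU))
    omega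

theorem cent_EJ {g : Spor.J4} (h : ∀ q ∈ EJ, q * g = g * q) : g = 1 ∨ g = uJ := by
  have hb : eJ 8 0 ∈ EJ := eJ_mem (by norm_num) (by norm_num)
  have h1 : g ∈ KJ := by
    refine ⟨(h _ es_EJ.mem).symm, one_mem _, fun i hi => ⟨i, hi, ?_, one_smul _ _⟩⟩
    obtain ⟨x, p, hx, e⟩ := exists_trans hi
    have h2 := h _ (norm_EJ (g := x) hx.1 hb)
    have h3 : x⁻¹ * g * x ∈ LamJ := cent_duad (d := ofMask (encL Bs 8))
      (by rw [Golay.card_ofMask (by decide +kernel)]; decide +kernel) (by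
        rw [← show eJ 8 0 = Phi iotaJ (gJ 2) _ from eJ_zero 8]
        calc _ = x⁻¹ * (x * eJ 8 0 * x⁻¹ * g) * x := by group
          _ = _ := by rw [h2]; group)
    have h4 := lam_fix h3
    rwa [mul_smul, mul_smul, inv_smul_eq_iff, e] at h4
  obtain ⟨e, he, i, rfl⟩ := mem_KJ_iff.1 h1
  have h2 : ¬ eJ 8 0 * rJ = rJ * eJ 8 0 := fun h2 => by
    rcases fpf_rJ hb h2 with h3 | h3
    exacts [absurd (eJ_inj (by norm_num) (by norm_num) (by norm_num) (by norm_num) (h3.trans eJ_00.symm)).1 (by norm_num),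
      absurd (eJ_inj (by norm_num) (by norm_num) (by norm_num) (by norm_num) (h3.trans eJ_10.symm)).1 (by norm_num)]
  have hz : Commute uJ (rJ ^ i) := Commute.pow_right (show uJ * rJ = rJ * uJ from rJ_mem.1.symm) i
  have h3 : Commute (eJ 8 0) (rJ ^ i * rJ ^ i) := by
    have h4 := h _ hb
    rcases es_EJ.comm _ hb _ he with h5 | h5 <;> rw [← mul_assoc, h5] at h4
    · rw [mul_assoc, mul_assoc, mul_right_inj] at h4
      exact Commute.mul_right h4 h4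
    · rw [← mul_assoc, ← es_EJ.comm_z e he, mul_assoc, mul_assoc, mul_assoc, mul_right_inj] at h4
      have h7 : uJ * uJ = 1 := hypJ.uu_sq
      have h6 : eJ 8 0 * rJ ^ i = uJ * (rJ ^ i * eJ 8 0) := by rw [← h4, ← mul_assoc, h7, one_mul]
      change _ * _ = _ * _
      rw [← mul_assoc, h6, mul_assoc, mul_assoc, h6, ← mul_assoc (rJ ^ i), ← hz.eq, ← mul_assoc, ← mul_assoc uJ, h7,
        one_mul, mul_assoc]
  rw [← Nat.div_add_mod i 3, pow_add, pow_mul, rJ_three, one_pow, one_mul] at h h3 ⊢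
  rcases (by omega : i % 3 = 0 ∨ i % 3 = 1 ∨ i % 3 = 2) with h4 | h4 | h4 <;> rw [h4] at h h3 ⊢
  · rw [pow_zero, mul_one] at h ⊢
    exact es_EJ.center e he h
  · have h5 := h3.mul_right h3
    rw [← pow_add, ← pow_add, pow_succ, rJ_three, one_mul] at h5
    exact absurd h5 h2
  · rw [← pow_add, pow_succ, rJ_three, one_mul] at h3
    exact absurd h3 h2

/-- the centraliser of `u` -/
noncomputable def baseJ : J4T.Base uJ where
  E := EJ
  ρ := rJ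
  θ := thJ
  pre := ⟨es_EJ, fun _ => cent_EJ, fun _ hg _ => norm_EJ hg⟩
  card_E := card_EJ
  rho_ne := rJ_ne
  rho_three := rJ_three
  rho_z := rJ_mem.1
  θ_mul _ _ hx hy := thJ_eq (mul_mem (thJ_spec hx) (thJ_spec hy))
  θ_mem _ hx := (thJ_spec hx).2.1
  θ_surj _ hp := let ⟨g, hg⟩ := exists_fst hp; ⟨g, hg.1, thJ_eq hg⟩
  θ_ker _ hx := Iff.trans ⟨fun h => mem_KJ.2 (h ▸ thJ_spec hx), thJ_eq⟩ mem_KJ_iff
  fpf _ := fpf_rJ

end CfsgLib.J4
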